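import Cfsg.Agent.H41.UExt.Commutator

/-!
An element not mapping isotropic lines to lines gives a rank one meeting.
-/

set_option autoImplicit false
set_option linter.unusedSectionVars false
set_option linter.unusedSimpArgs false

namespace H41.UExt

open Matrix Cfsg H50

variable {F E : Type*} [Field F] [Fintype F] [Field E] [Fintype E] [Algebra F E] {q : ℕ}
variable {τ : E →ₗ[F] F} {Mf : ((Fin 4 → E) →ₗ[F] (Fin 4 → E)) → Prop} (d : XS q τ Mf)
include d

local notation "W4" => (Fin 4 → E)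
local notation "φ" => hermForm 4 E (q ^ 3)
local notation "al" => algebraMap F E

/-- Completing an affine family to an isotropic vector along an anisotropic direction. -/
theorem XS.iso_along {w₀ z : W4} (hz : φ z z ≠ 0) :
    ∃ l : E, φ (w₀ - (φ w₀ z / φ z z) • z + l • z) (w₀ - (φ w₀ z / φ z z) • z + l • z) = 0 := by
  have hE := d.cardE
  set w₁ := w₀ - (φ w₀ z / φ z z) • z with hw₁
  have h1 : φ w₁ z = 0 := by rw [hw₁, h_sub_left, h_smul_left, div_mul_cancel₀ _ hz, sub_self]
  obtain ⟨l, hl⟩ := H50.exists_norm_eq hE (c := -(φ w₁ w₁ / φ z z))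
    (by rw [neg_pow_q hE, div_pow, h_self_fixed hE, h_self_fixed hE])
  rw [pow_succ] at hl
  refine ⟨l, ?_⟩
  rw [h_add_left, h_add_right hE, h_add_right hE, h_smul_left, h_smul_right hE, h_smul_left, h_smul_right hE, h1,
    h_symm hE w₁ z, h1, zero_pow (q_ne_zero hE)]
  field_simp at hl
  linear_combination hl

/-- Completing along an isotropic direction. -/
theorem XS.iso_along_iso {w₀ z : W4} (hz : φ z z = 0) (h : φ w₀ z ≠ 0) :
    ∃ l : E, φ (w₀ + l • z) (w₀ + l • z) = 0 := by
  have hE := d.cardE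
  obtain ⟨t, ht⟩ := exists_trace_eq hE (c := -φ w₀ w₀) (by rw [neg_pow_q hE, h_self_fixed hE])
  refine ⟨(t / φ w₀ z) ^ q ^ 3, ?_⟩
  rw [h_add_left, h_add_right hE, h_add_right hE, h_smul_left, h_smul_right hE, h_smul_left, h_smul_right hE, hz,
    h_symm hE w₀ z, pow_q_pow_q hE, div_mul_cancel₀ _ h, ← mul_pow, div_mul_cancel₀ _ h]
  linear_combination ht

/-- Three independent images. -/
theorem XS.rankOne_indep {g : W4 →ₗ[F] W4} (hg : Mf g) {v : W4} (hv : φ v v = 0) {c : Fin 3 → E}
    (hc : LinearIndependent E fun i => g (c i • v)) :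
    ∃ n : W4, n ≠ 0 ∧ φ n n = 0 ∧ Ctr q τ Mf n := by
  classical
  have hE := d.cardE
  set B := fun i => g (c i • v) with hB
  choose W hW using fun i => coords_surjective hE hc (Pi.single i 1 : Fin 3 → E)
  have hWB : ∀ i j, φ (W i) (B j) = if j = i then 1 else 0 := fun i j => by
    have := congrFun (hW i) j
    rw [coords_apply] at this
    rw [this, Pi.single_apply]
  have hr := finrank_perp_range hE hc
  rw [Fintype.card_fin] at hr
  obtain ⟨z, hzP, hz0⟩ := Submodule.exists_mem_ne_zero_of_ne_bot (p := perp (q ^ 3) (Set.range B))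
    (fun e => by rw [e, finrank_bot] at hr; omega)
  have hzB : ∀ j, φ z (B j) = 0 := mem_perp_range.1 hzP
  have hline : ∀ y, (∀ j, φ y (B j) = 0) → ∃ t : E, y = t • z := by
    intro y hy
    have h1 : Module.finrank E (perp (q ^ 3) (Set.range B)) = 1 := by omega
    obtain ⟨t, ht⟩ := exists_smul_eq_of_finrank_eq_one h1
      (x := (⟨z, hzP⟩ : perp (q ^ 3) (Set.range B))) (fun e => hz0 (congrArg Subtype.val e))
      ⟨y, mem_perp_range.2 hy⟩
    exact ⟨t, (congrArg Subtype.val ht).symm⟩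
  obtain ⟨i, w, hw0, hw, hwB⟩ : ∃ (i : Fin 3) (w : W4), w ≠ 0 ∧ φ w w = 0 ∧ ∀ j, φ w (B j) = if j = i then 1 else 0 := by
    have fin : ∀ i w, (∀ j, φ w (B j) = if j = i then 1 else 0) → w ≠ 0 := fun i w h e => by
      have := h i
      rw [e, h_zero_left, if_pos rfl] at this
      exact zero_ne_one this
    by_cases hzz : φ z z = 0
    · obtain ⟨i, hi⟩ : ∃ i, φ (W i) z ≠ 0 := by
        by_contra hcon
        simp only [not_exists, not_not] at hcon
        refine hz0 (eq_zero_of_h_right hE fun y => ?_)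
        set y' := y - ∑ j, φ y (B j) • W j with hy'
        obtain ⟨t, ht⟩ := hline y' fun j => by
          rw [hy', h_sub_left, h_sum_left]
          simp [h_smul_left, hWB]
        have : φ y' z = 0 := by rw [ht, h_smul_left, hzz, mul_zero]
        rwa [hy', h_sub_left, h_sum_left, Finset.sum_eq_zero (fun j _ => by rw [h_smul_left, hcon, mul_zero]),
          sub_zero] at this
      obtain ⟨l, hl⟩ := d.iso_along_iso hzz hi
      have h : ∀ j, φ (W i + l • z) (B j) = if j = i then 1 else 0 := fun j => by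
        rw [h_add_left, h_smul_left, hzB, mul_zero, add_zero, hWB]
      exact ⟨i, _, fin i _ h, hl, h⟩
    · obtain ⟨l, hl⟩ := d.iso_along (w₀ := W 0) hzz
      have h : ∀ j, φ (W 0 - (φ (W 0) z / φ z z) • z + l • z) (B j) = if j = 0 then 1 else 0 := fun j => by
        rw [h_add_left, h_sub_left, h_smul_left, h_smul_left, hzB, mul_zero, mul_zero, add_zero, sub_zero, hWB]
      exact ⟨0, _, fin 0 _ h, hl, h⟩
  have hcF : LinearIndependent F c := Fintype.linearIndependent_iff.2 fun a ha j => by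
    have h1 : ∑ j, al (a j) • B j = 0 := by
      simp only [hB, algebraMap_smul, ← map_smul, ← smul_assoc, ← map_sum, ← Finset.sum_smul, ha, zero_smul, map_zero]
    exact (map_eq_zero _).1 (Fintype.linearIndependent_iff.1 hc _ h1 j)
  refine d.ctr_of_rankOne hg hv hw hw0 (fun e => ?_) ⟨c i, ?_⟩
  · obtain ⟨a, rfl⟩ : ∃ a : Fin 3 → F, ∑ j, a j • c j = e := by
      have hspan := hcF.span_eq_top_of_card_eq_finrank (by rw [Fintype.card_fin, d.rank])
      exact (Submodule.mem_span_range_iff_exists_fun F).1 (hspan ▸ Submodule.mem_top)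
    refine ⟨a i, ?_⟩
    rw [Finset.sum_smul, map_sum, h_sum_left, Finset.sum_eq_single i]
    · rw [smul_assoc, map_smul, d.hh_smul_left, h_symm hE w (g (c i • v)), hwB i, if_pos rfl, one_pow, mul_one]
    · intro j _ hj
      rw [smul_assoc, map_smul, d.hh_smul_left, h_symm hE w (g (c j • v)), hwB j, if_neg hj,
        zero_pow (q_ne_zero hE), mul_zero]
    · simp
  · rw [h_symm hE w (g (c i • v)), hwB i, if_pos rfl, one_pow]
    exact one_ne_zero

/-- An isotropic vector with prescribed products with two independent vectors. -/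
theorem XS.iso_vec {x y : W4} (hxy : LinearIndependent E ![x, y]) :
    ∃ w, φ w w = 0 ∧ φ w x = 0 ∧ φ w y = 1 ∧
      ((φ x x ≠ 0 ∨ φ x y ≠ 0 ∨ φ y y = 0) → ∀ a b : E, w ≠ a • x + b • y) := by
  classical
  have hE := d.cardE
  obtain ⟨w₀, hw₀⟩ := coords_surjective hE hxy ![0, 1]
  have hw₀x : φ w₀ x = 0 := by simpa [coords_apply] using congrFun hw₀ 0
  have hw₀y : φ w₀ y = 1 := by simpa [coords_apply] using congrFun hw₀ 1
  set X := perp (q ^ 3) (Set.range ![x, y]) with hX
  have hXm : ∀ {e}, e ∈ X ↔ φ e x = 0 ∧ φ e y = 0 := fun {e} => by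
    rw [hX, mem_perp_range, Fin.forall_fin_two]; simp
  have hr : Module.finrank E X = 2 := by
    have := finrank_perp_range hE hxy
    rw [Fintype.card_fin] at this
    show Module.finrank E (perp (q ^ 3) (Set.range ![x, y])) = 2
    omega
  set P := Submodule.span E (Set.range ![x, y]) with hPdef
  have hPm : ∀ a b : E, a • x + b • y ∈ P := fun a b => P.add_mem
    (P.smul_mem a (Submodule.subset_span ⟨0, rfl⟩)) (P.smul_mem b (Submodule.subset_span ⟨1, rfl⟩))
  have hPperp : ∀ {p e}, p ∈ P → e ∈ X → φ e p = 0 := fun {p e} hp he => by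
    obtain ⟨a, rfl⟩ := (Submodule.mem_span_range_iff_exists_fun E).1 hp
    rw [Fin.sum_univ_two, h_add_right hE, h_smul_right hE, h_smul_right hE]
    simp [(hXm.1 he).1, (hXm.1 he).2]
  have hPr : Module.finrank E P = 2 := by rw [hPdef, finrank_span_eq_card hxy, Fintype.card_fin]
  -- adjust by a vector of the perpendicular space
  have adjust : ∀ {z : W4}, z ∈ P → φ z z = 0 → z ∈ X → φ w₀ z ≠ 0 →
      ∃ w, φ w w = 0 ∧ φ w x = 0 ∧ φ w y = 1 ∧ ∀ a b : E, w ≠ a • x + b • y := by
    intro z hzP hzz hzX hz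
    obtain ⟨e, he, hout⟩ : ∃ e ∈ X, w₀ + e ∉ P := by
      by_cases h0 : w₀ ∈ P
      · have hnot : ¬ X ≤ P := fun hle => hz ((h_eq_zero_comm hE).1 (hPperp h0 hzX))
        obtain ⟨e, he, heP⟩ := SetLike.not_le_iff_exists.1 hnot
        exact ⟨e, he, fun h => heP ((P.add_mem_iff_right h0).1 h)⟩
      · exact ⟨0, X.zero_mem, by rwa [add_zero]⟩
    have hez : φ (w₀ + e) z ≠ 0 := by rw [h_add_left, hPperp hzP he, add_zero]; exact hz
    obtain ⟨l, hl⟩ := d.iso_along_iso hzz hez
    refine ⟨_, hl, ?_, ?_, fun a b h => hout ?_⟩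
    · rw [h_add_left, h_add_left, h_smul_left, hw₀x, (hXm.1 he).1, (hXm.1 hzX).1]; simp
    · rw [h_add_left, h_add_left, h_smul_left, hw₀y, (hXm.1 he).2, (hXm.1 hzX).2]; simp
    · have := P.sub_mem (hPm a b) (P.smul_mem l hzP)
      rwa [← h, add_sub_cancel_right] at this
  by_cases hy : y ∈ X
  · obtain ⟨w, h1, h2, h3, h4⟩ := adjust (z := y) (Submodule.subset_span ⟨1, rfl⟩) (hXm.1 hy).2 hy
      (by rw [hw₀y]; exact one_ne_zero)
    exact ⟨w, h1, h2, h3, fun _ => h4⟩
  by_cases hx : x ∈ X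
  · have hxx := (hXm.1 hx).1
    have hxy' := (hXm.1 hx).2
    have hyy : φ y y ≠ 0 := fun e => hy (hXm.2 ⟨(h_eq_zero_comm hE).1 hxy', e⟩)
    obtain ⟨e, he, hee⟩ : ∃ e ∈ X, φ e e ≠ 0 := by
      by_contra hcon
      simp only [not_exists, not_and, not_not] at hcon
      obtain ⟨k, hk⟩ : ∃ k : Fin 2 → X, LinearIndependent E k := exists_linearIndependent_of_le_finrank (by omega)
      have hk' : LinearIndependent E fun i => (k i : W4) := hk.map' X.subtype (Submodule.ker_subtype X)
      have hpol : ∀ a ∈ X, ∀ b ∈ X, φ a b = 0 := by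
        intro a ha b hb
        by_contra hne
        obtain ⟨t, ht⟩ := exists_trace_ne_zero hE
        set c := (t / φ a b) ^ q ^ 3 with hc
        have h1 := hcon (a + c • b) (X.add_mem ha (X.smul_mem c hb))
        rw [h_add_left, h_add_right hE, h_add_right hE, h_smul_left, h_smul_right hE, h_smul_left, h_smul_right hE,
          hcon a ha, hcon b hb, hc, pow_q_pow_q hE, h_symm hE a b, zero_add, mul_zero, mul_zero, add_zero,
          ← mul_pow, div_mul_cancel₀ _ hne] at h1
        exact ht h1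
      have hr2 := finrank_perp_range hE hk'
      rw [Fintype.card_fin] at hr2
      have hle : X ≤ perp (q ^ 3) (Set.range fun i => (k i : W4)) := fun a ha =>
        mem_perp_range.2 fun i => hpol a ha _ (k i).2
      have heq := Submodule.eq_of_le_of_finrank_le hle (by omega)
      apply hy
      rw [heq]
      exact mem_perp_range.2 fun i => (h_eq_zero_comm hE).1 (hPperp (Submodule.subset_span ⟨1, rfl⟩) (k i).2)
    obtain ⟨l, hl⟩ := d.iso_along (w₀ := w₀) hee
    refine ⟨_, hl, ?_, ?_, fun h => absurd h (by simp [hxx, hxy', hyy])⟩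
    · rw [h_add_left, h_sub_left, h_smul_left, h_smul_left, hw₀x, (hXm.1 he).1]; simp
    · rw [h_add_left, h_sub_left, h_smul_left, h_smul_left, hw₀y, (hXm.1 he).2]; simp
  by_cases hR : ∃ z ∈ P, z ≠ 0 ∧ z ∈ X
  · obtain ⟨z, hzP, hz0, hzX⟩ := hR
    obtain ⟨a, ha⟩ := (Submodule.mem_span_range_iff_exists_fun E).1 hzP
    simp [Fin.sum_univ_two] at ha
    have ha1 : a 1 ≠ 0 := fun e => by
      rw [e, zero_smul, add_zero] at ha
      apply hx
      have ha0 : a 0 ≠ 0 := fun e0 => hz0 (by rw [← ha, e0, zero_smul])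
      rw [← ha] at hzX
      exact (X.smul_mem_iff ha0).1 hzX
    have hwz : φ w₀ z ≠ 0 := by
      rw [← ha, h_add_right hE, h_smul_right hE, h_smul_right hE, hw₀x, hw₀y, mul_zero, zero_add, mul_one]
      exact pow_ne_zero _ ha1
    obtain ⟨w, h1, h2, h3, h4⟩ := adjust hzP (hPperp hzP hzX) hzX hwz
    exact ⟨w, h1, h2, h3, fun _ => h4⟩
  simp only [not_exists, not_and] at hR
  have hinf : P ⊓ X = ⊥ := by
    rw [eq_bot_iff]
    intro z hz
    by_contra h0
    exact hR z hz.1 h0 hz.2
  have htop : P ⊔ X = ⊤ := Submodule.eq_top_of_finrank_eq (by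
    have := Submodule.finrank_sup_add_finrank_inf_eq P X
    rw [hinf, finrank_bot, hPr, hr] at this
    rw [Module.finrank_fin_fun]
    omega)
  obtain ⟨p, hp, x₀, hx₀, hsum⟩ := Submodule.mem_sup.1 (htop.ge (Submodule.mem_top : w₀ ∈ ⊤))
  have hpx : φ p x = 0 := by
    rw [← hsum, h_add_left, (hXm.1 hx₀).1, add_zero] at hw₀x; exact hw₀x
  have hpy : φ p y = 1 := by
    rw [← hsum, h_add_left, (hXm.1 hx₀).2, add_zero] at hw₀y; exact hw₀y
  have hnd : IsNondeg (q ^ 3) X := fun u hu h => eq_zero_of_h_left hE fun t => by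
    obtain ⟨p', hp', x', hx', rfl⟩ := Submodule.mem_sup.1 (htop.ge (Submodule.mem_top : t ∈ ⊤))
    rw [h_add_right hE, hPperp hp' hu, h x' hx', add_zero]
  obtain ⟨D, hD, hDX, -⟩ := exists_ON_basis hE hnd (k := 2) hr
  obtain ⟨e, he, he0, hee⟩ : ∃ e ∈ X, e ≠ 0 ∧ φ e e = -φ p p := by
    by_cases ha : φ p p = 0
    · obtain ⟨ξ, hξ⟩ := H50.exists_norm_eq hE (c := -1) (by rw [neg_pow_q hE, one_pow])
      rw [pow_succ] at hξ
      refine ⟨D 0 + ξ • D 1, X.add_mem (hDX 0) (X.smul_mem ξ (hDX 1)), fun h => ?_, ?_⟩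
      · have := congrArg (fun u => φ u (D 0)) h
        simp [h_add_left, h_smul_left, h_zero_left, hD 0 0, hD 1 0] at this
      · simp [h_add_left, h_add_right hE, h_smul_left, h_smul_right hE, hD 0 0, hD 0 1, hD 1 0, hD 1 1, ha]
        linear_combination hξ
    · obtain ⟨l, hl⟩ := H50.exists_norm_eq hE (c := -φ p p) (by rw [neg_pow_q hE, h_self_fixed hE])
      rw [pow_succ] at hl
      refine ⟨l • D 0, X.smul_mem l (hDX 0), fun h => ?_, ?_⟩
      · have := congrArg (fun u => φ u u) h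
        simp [h_smul_left, h_smul_right hE, h_zero_left, hD 0 0] at this
        rw [this.elim And.left id, mul_zero] at hl
        exact ha (neg_eq_zero.1 hl.symm)
      · rw [h_smul_left, h_smul_right hE, hD 0 0, if_pos rfl]
        linear_combination hl
  refine ⟨p + e, ?_, ?_, ?_, fun _ a b h => hR e ?_ he0 he⟩
  · rw [h_add_left, h_add_right hE, h_add_right hE, hee, hPperp hp he, (h_eq_zero_comm hE).1 (hPperp hp he)]
    ring
  · rw [h_add_left, hpx, (hXm.1 he).1, add_zero]
  · rw [h_add_left, hpy, (hXm.1 he).2, add_zero]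
  · have := P.sub_mem (hPm a b) hp
    rwa [← h, add_sub_cancel_left] at this

theorem XS.exists_ker₂ {W : Type*} [AddCommGroup W] [Module F W] [FiniteDimensional F W] (f : E →ₗ[F] W)
    (h : Module.finrank F W < 3) : ∃ e, f e = 0 ∧ e ≠ 0 := by
  haveI : FiniteDimensional F E := Module.finite_of_finrank_eq_succ d.rank
  obtain ⟨e, he, he0⟩ := Submodule.exists_mem_ne_zero_of_ne_bot
    (LinearMap.ker_ne_bot_of_finrank_lt (f := f) (by rw [d.rank]; exact h))
  exact ⟨e, he, he0⟩

/-- A map not preserving an isotropic line gives an isotropic centre. -/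
theorem XS.ctr_of_not_line {g : W4 →ₗ[F] W4} (hg : Mf g) {v : W4} (hv : φ v v = 0)
    (hnl : ∃ c : E, ∀ e : E, g (c • v) ≠ e • g v) : ∃ n : W4, n ≠ 0 ∧ φ n n = 0 ∧ Ctr q τ Mf n := by
  classical
  have hE := d.cardE
  haveI : FiniteDimensional F E := Module.finite_of_finrank_eq_succ d.rank
  obtain ⟨c₀, hc₀⟩ := hnl
  obtain ⟨g', hg', hgg, hgg'⟩ := d.inv hg
  have e₁ : ∀ x, g' (g x) = x := fun x => LinearMap.congr_fun hgg x
  have hv0 : v ≠ 0 := fun e => hc₀ 0 (by rw [e, smul_zero, map_zero, smul_zero])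
  let G : E →ₗ[F] W4 :=
    { toFun := fun c => g (c • v)
      map_add' := fun a b => by rw [add_smul, map_add]
      map_smul' := fun t a => by rw [RingHom.id_apply, smul_assoc, map_smul] }
  have hG : ∀ c, G c = g (c • v) := fun c => rfl
  have hGinj : Function.Injective G := fun a b h => by
    have := congrArg g' h
    rw [hG, hG, e₁, e₁] at this
    exact smul_left_injective E hv0 this
  by_cases hI : ∃ c : Fin 3 → E, LinearIndependent E fun i => g (c i • v)
  · obtain ⟨c, hc⟩ := hI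
    exact d.rankOne_indep hg hv hc
  -- every image lies in the plane of two
  have plane : ∀ a b : E, LinearIndependent E ![G a, G b] → ∀ c, ∃ α β : E, G c = α • G a + β • G b := by
    intro a b hab c
    by_contra hcon
    simp only [not_exists] at hcon
    apply hI
    refine ⟨![c, a, b], ?_⟩
    have e : (fun i => g (![c, a, b] i • v)) = Fin.cons (G c) ![G a, G b] := by
      funext i; fin_cases i <;> rfl
    rw [e]
    refine linearIndependent_finCons.2 ⟨hab, fun h => ?_⟩
    obtain ⟨t, ht⟩ := (Submodule.mem_span_range_iff_exists_fun E).1 h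
    simp [Fin.sum_univ_two] at ht
    exact hcon (t 0) (t 1) ht.symm
  have indep : ∀ a b : E, a ≠ 0 → (∀ e : E, G b ≠ e • G a) → LinearIndependent E ![G a, G b] := by
    intro a b ha hb
    refine linearIndependent_fin2.2 ⟨by simpa using fun e : G b = 0 => hb 0 (by rw [e, zero_smul]), fun t ht => ?_⟩
    simp at ht
    rcases eq_or_ne t 0 with rfl | ht0
    · rw [zero_smul] at ht
      exact ha (hGinj (by rw [← ht, map_zero]))
    · exact hb t⁻¹ (by rw [← ht, smul_smul, inv_mul_cancel₀ ht0, one_smul])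
  have nonline : ∀ a : E, a ≠ 0 → ∃ b, ∀ e : E, G b ≠ e • G a := by
    intro a ha
    by_contra hcon
    simp only [not_exists, not_forall, not_not] at hcon
    obtain ⟨e₁', he₁⟩ := hcon 1
    obtain ⟨e₂', he₂⟩ := hcon c₀
    have he0 : e₁' ≠ 0 := fun e => by
      rw [e, zero_smul, ← map_zero G] at he₁
      exact one_ne_zero (hGinj he₁)
    refine hc₀ (e₂' / e₁') ?_
    rw [← hG, he₂, show g v = G 1 by rw [hG, one_smul], he₁, smul_smul, div_mul_cancel₀ _ he0]
  by_cases hA : ∃ a b : E, a ≠ 0 ∧ (∀ t : F, b ≠ t • a) ∧ ∃ e : E, G b = e • G a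
  · -- a line meeting the image in a plane
    obtain ⟨a, b, ha, hb, e, he⟩ := hA
    obtain ⟨c, hc⟩ := nonline a ha
    have hac := indep a c ha hc
    obtain ⟨w, hw, hwx, hwy, -⟩ := d.iso_vec hac
    have hw0 : w ≠ 0 := fun h => by rw [h, h_zero_left] at hwy; exact zero_ne_one hwy
    have hli : LinearIndependent F ![c, b, a] := by
      rw [show ![c, b, a] = Fin.cons c ![b, a] by funext i; fin_cases i <;> rfl]
      refine linearIndependent_finCons.2 ⟨linearIndependent_fin2.2 ⟨by simpa using ha, fun t h => hb t (by simpa using h.symm)⟩,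
        fun h => ?_⟩
      obtain ⟨t, ht⟩ := (Submodule.mem_span_range_iff_exists_fun F).1 h
      simp [Fin.sum_univ_two] at ht
      refine hc (al (t 0) * e + al (t 1)) ?_
      rw [← ht, map_add, map_smul, map_smul, he, ← algebraMap_smul E (t 0) (e • G a), ← algebraMap_smul E (t 1) (G a),
        smul_smul, add_smul]
    refine d.ctr_of_rankOne hg hv hw hw0 (fun u => ?_) ⟨c, ?_⟩
    · obtain ⟨t, rfl⟩ := (Submodule.mem_span_range_iff_exists_fun F).1
        ((hli.span_eq_top_of_card_eq_finrank (by rw [Fintype.card_fin, d.rank])).ge (Submodule.mem_top : u ∈ ⊤))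
      refine ⟨t 0, ?_⟩
      have hGa : φ (G a) w = 0 := by rw [h_symm hE w (G a), hwx, zero_pow (q_ne_zero hE)]
      have hGc : φ (G c) w = 1 := by rw [h_symm hE w (G c), hwy, one_pow]
      rw [← hG, map_sum, h_sum_left, Fin.sum_univ_three]
      simp [map_smul, d.hh_smul_left, he, h_smul_left, hGa, hGc]
    · rw [← hG, h_symm hE w (G c), hwy, one_pow]; exact one_ne_zero
  -- scattered image
  simp only [not_exists, not_and] at hA
  have scat : ∀ a b : E, a ≠ 0 → (∀ t : F, b ≠ t • a) → LinearIndependent E ![G a, G b] := fun a b ha hb =>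
    indep a b ha fun e he => hA a b ha hb e he
  -- choose a point off the radical
  obtain ⟨c₁, hc₁, hrad⟩ : ∃ c₁ : E, c₁ ≠ 0 ∧ ∀ c, (∀ e : E, G c ≠ e • G c₁) →
      (φ (G c₁) (G c₁) ≠ 0 ∨ φ (G c₁) (G c) ≠ 0 ∨ φ (G c) (G c) = 0) := by
    by_cases h : ∃ c₁ c, φ (G c₁) (G c) ≠ 0
    · obtain ⟨c₁, c', h'⟩ := h
      have hc₁ : c₁ ≠ 0 := fun e => h' (by rw [e, map_zero, h_zero_left])
      refine ⟨c₁, hc₁, fun c hc => ?_⟩
      by_contra hcon
      simp only [not_or, not_not, Ne] at hcon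
      obtain ⟨α, β, hαβ⟩ := plane c₁ c (indep c₁ c hc₁ hc) c'
      apply h'
      rw [hαβ, h_add_right hE, h_smul_right hE, h_smul_right hE, hcon.1, hcon.2.1]
      simp
    · simp only [not_exists, not_not] at h
      exact ⟨1, one_ne_zero, fun c _ => Or.inr (Or.inr (h c c))⟩
  obtain ⟨c₃, hc₃⟩ := nonline c₁ hc₁
  have h13 := indep c₁ c₃ hc₁ hc₃
  obtain ⟨w, hw, hwx, hwy, hout⟩ := d.iso_vec h13
  replace hout := hout (hrad c₃ hc₃)
  -- the functional
  let η : E →ₗ[F] E :=
    { toFun := fun c => φ (G c) w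
      map_add' := fun a b => by rw [map_add, h_add_left]
      map_smul' := fun t a => by rw [RingHom.id_apply, map_smul, d.hh_smul_left, Algebra.smul_def] }
  have hη1 : η c₁ = 0 := by
    show φ (G c₁) w = 0
    rw [h_symm hE w (G c₁), hwx, zero_pow (q_ne_zero hE)]
  have hη3 : η c₃ = 1 := by
    show φ (G c₃) w = 1
    rw [h_symm hE w (G c₃), hwy, one_pow]
  have hker : ∀ c, η c = 0 → ∃ t : F, c = t • c₁ := by
    intro c hc
    by_contra hcon
    simp only [not_exists] at hcon
    obtain ⟨α, β, hαβ⟩ := plane c₁ c₃ h13 c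
    refine hA c₁ c hc₁ hcon α ?_
    have h1 : φ (G c) w = β := by
      rw [hαβ, h_add_left, h_smul_left, h_smul_left, h_symm hE w (G c₁), hwx, h_symm hE w (G c₃), hwy,
        zero_pow (q_ne_zero hE), one_pow, mul_zero, mul_one, zero_add]
    rw [hαβ, show β = 0 by rw [← h1]; exact hc, zero_smul, add_zero]
  obtain ⟨c₂, hc₂⟩ : ∃ c₂, ∀ t : F, η c₂ ≠ al t := by
    by_contra hcon
    simp only [not_exists, not_forall, not_not] at hcon
    choose t ht using hcon
    have hli : Module.finrank F (LinearMap.ker η) ≤ 1 := by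
      refine finrank_le_one ⟨c₁, hη1⟩ fun u => ?_
      obtain ⟨s, hs⟩ := hker u.1 u.2
      exact ⟨s, Subtype.ext hs.symm⟩
    have h1 := LinearMap.finrank_range_add_finrank_ker η
    have h2 : Module.finrank F (LinearMap.range η) ≤ 1 := by
      refine finrank_le_one ⟨1, c₃, hη3⟩ fun u => ?_
      obtain ⟨c, hc⟩ := u.2
      exact ⟨t c, Subtype.ext (by
        show t c • (1 : E) = u.1
        rw [← hc, ht c, Algebra.smul_def, mul_one])⟩
    rw [d.rank] at h1
    omega
  -- the coordinates of the line of `w`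
  let π : E →ₗ[F] E :=
    { toFun := fun e => φ (g' (e • w)) v
      map_add' := fun a b => by rw [add_smul, map_add, h_add_left]
      map_smul' := fun t a => by rw [RingHom.id_apply, smul_assoc, map_smul, d.hh_smul_left, Algebra.smul_def t (φ (g' (a • w)) v)] }
  have hπ : ∀ e c, τ (c ^ q ^ 3 * π e) = τ (e * η c ^ q ^ 3) := by
    intro e c
    show τ (c ^ q ^ 3 * φ (g' (e • w)) v) = τ (e * φ (G c) w ^ q ^ 3)
    rw [← h_smul_right hE, ← d.iso hg, hG, show g (g' (e • w)) = e • w from LinearMap.congr_fun hgg' _,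
      h_smul_left, h_symm hE (g (c • v)) w]
  set e₂ := η c₂ ^ q ^ 3 with he₂def
  have he₂ : ∀ t : F, e₂ ≠ al t := fun t h => hc₂ (t ^ q) (by
    rw [← d.alg_conj, ← h, he₂def, pow_q_pow_q hE])
  let Λ : E →ₗ[F] F × F := LinearMap.prod τ (τ ∘ₗ LinearMap.mulRight F e₂)
  have hΛ : ∀ e, Λ e = (τ e, τ (e * e₂)) := fun e => rfl
  have hsurj : ∀ a b : F, ∃ e, Λ e = (a, b) := by
    intro a b
    have : LinearMap.range Λ = ⊤ := by
      by_contra hne
      obtain ⟨f, hf0, hfle⟩ := Submodule.exists_le_ker_of_lt_top _ (lt_top_iff_ne_top.2 hne)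
      set α := f (1, 0) with hα
      set β := f (0, 1) with hβ
      have hf : ∀ p : F × F, f p = p.1 * α + p.2 * β := fun p => by
        conv_lhs => rw [show p = p.1 • ((1, 0) : F × F) + p.2 • ((0, 1) : F × F) by simp]
        rw [map_add, map_smul, map_smul, smul_eq_mul, smul_eq_mul, ← hα, ← hβ]
      have h0 : al α + al β * e₂ = 0 := d.tau_ext fun c => by
        have : f (Λ c) = 0 := hfle ⟨c, rfl⟩
        rw [hf, hΛ] at this
        rw [mul_zero, map_zero, mul_add, map_add, d.tau_mul', ← mul_assoc, mul_comm c, mul_assoc, d.tau_mul]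
        linear_combination this
      by_cases hb : β = 0
      · rw [hb, map_zero, zero_mul, add_zero, map_eq_zero] at h0
        exact hf0 (LinearMap.ext fun p => by simp [hf, hb, h0])
      · refine he₂ (-α / β) ?_
        rw [map_div₀, map_neg, eq_div_iff (by rwa [Ne, map_eq_zero])]
        linear_combination h0
    exact LinearMap.range_eq_top.1 this (a, b)
  obtain ⟨cA, hcA⟩ := hsurj 1 0
  obtain ⟨cB, hcB⟩ := hsurj 0 1
  obtain ⟨cK, hcK, hcK0⟩ := d.exists_ker₂ Λ (by rw [Module.finrank_prod, Module.finrank_self]; norm_num)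
  simp only [hΛ, Prod.mk.injEq] at hcA hcB
  rw [hΛ, Prod.mk_eq_zero] at hcK
  have t3 : ∀ e, τ (c₃ ^ q ^ 3 * π e) = τ e := fun e => by rw [hπ, hη3, one_pow, mul_one]
  have t2 : ∀ e, τ (c₂ ^ q ^ 3 * π e) = τ (e * e₂) := fun e => hπ e c₂
  have hspan : LinearIndependent F ![c₂, c₃, c₁] := by
    rw [show ![c₂, c₃, c₁] = Fin.cons c₂ ![c₃, c₁] by funext i; fin_cases i <;> rfl]
    refine linearIndependent_finCons.2 ⟨linearIndependent_fin2.2 ⟨by simpa using hc₁, fun t h => ?_⟩, fun h => ?_⟩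
    · simp at h
      have := congrArg η h
      rw [map_smul, hη1, smul_zero, hη3] at this
      exact zero_ne_one this
    · obtain ⟨t, ht⟩ := (Submodule.mem_span_range_iff_exists_fun F).1 h
      simp [Fin.sum_univ_two] at ht
      exact hc₂ (t 0) (by rw [← ht, map_add, map_smul, map_smul, hη1, hη3, smul_zero, add_zero, Algebra.smul_def, mul_one])
  have hπK : π cK = 0 := d.tau_ext fun c => by
    rw [mul_zero, map_zero, ← pow_q_pow_q hE c]
    obtain ⟨t, ht⟩ := (Submodule.mem_span_range_iff_exists_fun F).1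
      ((hspan.span_eq_top_of_card_eq_finrank (by rw [Fintype.card_fin, d.rank])).ge
        (Submodule.mem_top : c ^ q ^ 3 ∈ ⊤))
    rw [hπ, ← ht, map_sum, sum_pow_q hE, Finset.mul_sum, map_sum, Fin.sum_univ_three, map_smul η, map_smul η, map_smul η]
    simp [map_smul, hη1, hη3, Algebra.smul_def, mul_pow, d.alg_conj, zero_pow (q_ne_zero hE), d.tau_mul,
      mul_left_comm cK (algebraMap F E _), ← he₂def, hcK.1, hcK.2]
    rw [← map_pow, ← map_pow, mul_left_comm, d.tau_mul, hcK.2, mul_comm cK, d.tau_mul, hcK.1]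
    simp
  -- the new element
  obtain ⟨ε, hε0, hε⟩ := exists_trace_zero_ne_zero d.cardF
  set k := al ε with hk
  have hkk : k + k ^ q ^ 3 = 0 := by rw [hk, d.alg_conj, ← map_add, hε, map_zero]
  have hk0 : k ≠ 0 := by rwa [hk, Ne, map_eq_zero]
  obtain ⟨u, hu, hux⟩ := d.etv hv hkk
  set g₂ := g ∘ₗ u ∘ₗ g' with hg₂
  have hg₂x : ∀ e, g₂ (e • w) = e • w + G (k * π e) := fun e => by
    show g (u (g' (e • w))) = _
    rw [hux, map_add, show g (g' (e • w)) = e • w from LinearMap.congr_fun hgg' _]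
    rfl
  refine d.rankOne_indep (c := ![cK, cA, cB]) (d.mul hg (d.mul hu hg')) hw ?_
  refine Fintype.linearIndependent_iff.2 fun s hs => ?_
  rw [Fin.sum_univ_three] at hs
  simp only [Matrix.cons_val_zero, Matrix.cons_val_one, Matrix.cons_val, ← hg₂, hg₂x, hπK, mul_zero, map_zero,
    add_zero] at hs
  have hab : LinearIndependent E ![G (k * π cA), G (k * π cB)] := by
    refine scat _ _ (mul_ne_zero hk0 fun h => ?_) fun t h => ?_
    · have := t3 cA
      rw [h, mul_zero, map_zero, hcA.1] at this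
      exact zero_ne_one this
    · rw [Algebra.smul_def, mul_left_comm, mul_right_inj' hk0] at h
      have := t2 cB
      rw [h, mul_left_comm, d.tau_mul, t2, hcA.2, mul_zero, hcB.2] at this
      exact zero_ne_one this
  obtain ⟨αA, βA, hAB⟩ := plane c₁ c₃ h13 (k * π cA)
  obtain ⟨αB, βB, hBB⟩ := plane c₁ c₃ h13 (k * π cB)
  have hcoef : s 0 * cK + s 1 * cA + s 2 * cB = 0 := by
    by_contra hne
    set S := s 0 * cK + s 1 * cA + s 2 * cB with hS
    refine hout (-S⁻¹ * (s 1 * αA + s 2 * αB)) (-S⁻¹ * (s 1 * βA + s 2 * βB)) ?_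
    have h1 : S • w = -((s 1 * αA + s 2 * αB) • G c₁ + (s 1 * βA + s 2 * βB) • G c₃) := by
      rw [hAB, hBB] at hs
      linear_combination (norm := module) hs
    calc w = S⁻¹ • (S • w) := by rw [smul_smul, inv_mul_cancel₀ hne, one_smul]
      _ = _ := by rw [h1]; module
  have h2 : ![s 1, s 2] 0 • G (k * π cA) + ![s 1, s 2] 1 • G (k * π cB) = 0 := by
    simp only [Matrix.cons_val_zero, Matrix.cons_val_one]
    linear_combination (norm := module) hs - congrArg (· • w) hcoef
  have h3 := Fintype.linearIndependent_iff.1 hab ![s 1, s 2] (by rw [Fin.sum_univ_two]; exact h2)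
  have h31 : s 1 = 0 := h3 0
  have h32 : s 2 = 0 := h3 1
  rw [h31, h32, zero_mul, zero_mul, add_zero, add_zero, mul_eq_zero] at hcoef
  intro j
  fin_cases j
  · exact hcoef.resolve_right hcK0
  · exact h31
  · exact h32

end H41.UExt
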