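import Cfsg.Agent.H41.UExt.Setting

/-!
A conjugated root element meeting an isotropic line in rank one gives all transvections with an isotropic
centre.
-/

set_option autoImplicit false
set_option linter.unusedSectionVars false
set_option linter.unusedSimpArgs false

namespace H41.UExt

open Matrix Cfsg H50

variable {F E : Type*} [Field F] [Fintype F] [Field E] [Fintype E] [Algebra F E] {q : ℕ}
variable {τ : E →ₗ[F] F} {Mf : ((Fin 4 → E) →ₗ[F] (Fin 4 → E)) → Prop} (d : XS q τ Mf)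
include d

local notation "W4" => (Fin 4 → E)
local notation "φ" => hermForm 4 E (q ^ 3)
local notation "al" => algebraMap F E

theorem XS.exists_seven (h2 : q = 2) :
    ∃ β : E, β ≠ 0 ∧ β ^ q ^ 3 = β ∧ β ^ 3 + β + 1 = 0 ∧ (2 : E) = 0 := by
  classical
  subst h2
  have hc : Fintype.card E = 64 := by rw [d.cardE]; norm_num
  obtain ⟨p, f, hp, -, hch, hqp⟩ := H50.exists_prime_pow d.cardE
  have hp2 : p = 2 := (Nat.prime_dvd_prime_iff_eq hp Nat.prime_two).1 (hp.dvd_of_dvd_pow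
    (show p ∣ 2 ^ 3 by rw [hqp]; exact dvd_pow_self p (by
      rintro rfl; norm_num at hqp)))
  subst hp2
  haveI := hch
  have h2 : (2 : E) = 0 := by exact_mod_cast CharP.cast_eq_zero E 2
  obtain ⟨u, hu⟩ := IsCyclic.exists_ofOrder_eq_natCard (α := Eˣ)
  rw [Nat.card_units, Nat.card_eq_fintype_card, hc] at hu
  set z : E := (u : E) ^ 9 with hz
  have hz7 : z ^ 7 = 1 := by
    rw [hz, ← pow_mul, ← Units.val_pow_eq_pow_val, orderOf_dvd_iff_pow_eq_one.1 (by rw [hu]), Units.val_one]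
  have hz1 : z ≠ 1 := fun h => by
    have : u ^ 9 = 1 := Units.ext (by rw [Units.val_pow_eq_pow_val]; exact h)
    have h9 := orderOf_dvd_of_pow_eq_one this
    rw [hu] at h9
    norm_num at h9
  have hz0 : z ≠ 0 := fun h => by rw [h] at hz7; norm_num at hz7
  have hfac : (z - 1) * ((z ^ 3 + z + 1) * (z ^ 3 + z ^ 2 + 1)) = 0 := by
    linear_combination hz7 + (z ^ 4 - z ^ 3) * h2
  rcases mul_eq_zero.1 ((mul_eq_zero.1 hfac).resolve_left (sub_ne_zero.2 hz1)) with h | h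
  · exact ⟨z, hz0, by norm_num; linear_combination z * hz7, h, h2⟩
  · refine ⟨z⁻¹, inv_ne_zero hz0, ?_, ?_, h2⟩
    · norm_num
      field_simp
      linear_combination hz7
    · field_simp
      linear_combination h

/-- The rank one meeting gives transvections. -/
theorem XS.ctr_of_rankOne {g : W4 →ₗ[F] W4} (hg : Mf g) {v w : W4} (hv : φ v v = 0) (hw : φ w w = 0) (hw0 : w ≠ 0)
    (hrk : ∀ c : E, ∃ t : F, φ (g (c • v)) w = al t) (hne : ∃ c : E, φ (g (c • v)) w ≠ 0) :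
    ∃ n : W4, n ≠ 0 ∧ φ n n = 0 ∧ Ctr q τ Mf n := by
  have hF := d.cardF
  have hE := d.cardE
  choose tc htc using hrk
  have inj := (algebraMap F E).injective
  let η : E →ₗ[F] F :=
    { toFun := tc
      map_add' := fun a b => inj (by rw [map_add, ← htc, ← htc, ← htc, add_smul, map_add, h_add_left])
      map_smul' := fun t a => inj (by
        rw [RingHom.id_apply, smul_eq_mul, map_mul, ← htc, ← htc, smul_assoc, map_smul, d.hh_smul_left]) }
  obtain ⟨θ, hθ⟩ := d.dual η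
  have hGw : ∀ c, φ (g (c • v)) w = al (τ (c * θ)) := fun c => by rw [hθ]; exact htc c
  have hθ0 : θ ≠ 0 := by
    rintro rfl
    obtain ⟨c, hc⟩ := hne
    exact hc (by rw [hGw, mul_zero, map_zero, map_zero])
  obtain ⟨g', hg', hgg, hgg'⟩ := d.inv hg
  have e₁ : ∀ x, g' (g x) = x := fun x => LinearMap.congr_fun hgg x
  have e₂ : ∀ x, g (g' x) = x := fun x => LinearMap.congr_fun hgg' x
  -- the coordinate along the conjugated line
  let π : W4 →ₗ[F] E := ((H50.hLeft 4 (q ^ 3) v).restrictScalars F) ∘ₗ g'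
  have hπ : ∀ x, π x = φ (g' x) v := fun x => rfl
  have hπG : ∀ c, π (g (c • v)) = 0 := fun c => by rw [hπ, e₁, h_smul_left, hv, mul_zero]
  have hπw : ∀ s, π (s • w) = al (τ s) * θ ^ q ^ 3 := by
    intro s
    refine d.tau_ext fun c => ?_
    have h1 : τ (c * π (s • w)) = τ (φ (s • w) (g (c ^ q ^ 3 • v))) := by
      rw [← e₂ (s • w), d.iso hg, e₂, h_smul_right hE, pow_q_pow_q hE, hπ]
    rw [h1, h_symm hE (g (c ^ q ^ 3 • v)) (s • w), d.tau_conj, h_smul_right hE, hGw, d.tau_mul', mul_pow,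
      ← d.tau_conj (c ^ q ^ 3 * θ), d.tau_conj s, pow_q_pow_q hF, mul_pow, pow_q_pow_q hE,
      show c * (al (τ s) * θ ^ q ^ 3) = al (τ s) * (c * θ ^ q ^ 3) by ring, d.tau_mul]
  -- the commutators
  have hD : ∀ k s : E, k + k ^ q ^ 3 = 0 → s + s ^ q ^ 3 = 0 → τ s = 0 → ∃ f, Mf f ∧ ∀ x,
      f x = x + (τ (k * π x * θ) - τ (s * φ x w) * τ (k * (θ * θ ^ q ^ 3))) • (s • w) -
        τ (s * φ x w) • g ((k * θ ^ q ^ 3) • v) := by
    intro k s hk hs hτs
    obtain ⟨u, hu, hux⟩ := d.etv hv hk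
    obtain ⟨u', hu', hux'⟩ := d.etv hv (k := -k) (by rw [neg_pow_q hE, ← neg_add, hk, neg_zero])
    obtain ⟨t, ht, htx⟩ := d.etv hw hs
    obtain ⟨t', ht', htx'⟩ := d.etv hw (k := -s) (by rw [neg_pow_q hE, ← neg_add, hs, neg_zero])
    refine ⟨(g ∘ₗ u' ∘ₗ g') ∘ₗ t ∘ₗ (g ∘ₗ u ∘ₗ g') ∘ₗ t',
      d.mul (d.mul hg (d.mul hu' hg')) (d.mul ht (d.mul (d.mul hg (d.mul hu hg')) ht')), fun x => ?_⟩
    simp only [LinearMap.comp_apply]
    have hM : ∀ (k : E) (u : W4 →ₗ[F] W4), (∀ x, u x = x + (k * φ x v) • v) → ∀ y,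
        g (u (g' y)) = y + g ((k * π y) • v) := fun k u hu y => by rw [hu, map_add, e₂, hπ]
    rw [hM k u hux, hM (-k) u' hux', htx]
    set p := φ x w
    set b := g ((k * θ ^ q ^ 3) • v) with hb
    have hbw : φ b w = al (τ (k * (θ * θ ^ q ^ 3))) := by rw [hb, hGw]; congr 2; ring
    have hπt : π (t' x) = π x - al (τ (s * p)) * θ ^ q ^ 3 := by
      rw [htx', map_add, hπw, neg_mul, map_neg, map_neg]; ring
    have hGt : g ((k * π (t' x)) • v) = g ((k * π x) • v) - τ (s * p) • b := by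
      rw [hπt, mul_sub, sub_smul, map_sub, hb, ← map_smul g, ← smul_assoc (τ (s * p)) (k * θ ^ q ^ 3) v, Algebra.smul_def (τ (s * p)) (k * θ ^ q ^ 3)]
      ring_nf
    rw [hGt]
    have hφt : φ (t' x) w = p := by rw [htx', h_add_left, h_smul_left, hw, mul_zero, add_zero]
    set A := g ((k * π x) • v) with hA
    have hAw : φ A w = al (τ (k * π x * θ)) := by rw [hA, hGw]
    have hmid : φ (t' x + (A - τ (s * p) • b)) w =
        p + (al (τ (k * π x * θ)) - al (τ (s * p) * τ (k * (θ * θ ^ q ^ 3)))) := by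
      rw [h_add_left, h_sub_left, hφt, hAw, d.hh_smul_left, hbw, map_mul (algebraMap F E)]
    rw [hmid]
    set C := τ (k * π x * θ) - τ (s * p) * τ (k * (θ * θ ^ q ^ 3)) with hC
    have hy : t' x + (A - τ (s * p) • b) + (s * (p + (al (τ (k * π x * θ)) -
        al (τ (s * p) * τ (k * (θ * θ ^ q ^ 3)))))) • w = x + C • (s • w) + (A - τ (s * p) • b) := by
      rw [htx', ← map_sub, ← hC, ← algebraMap_smul E C (s • w), smul_smul]
      module
    rw [hy]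
    have hπy : π (x + C • (s • w) + (A - τ (s * p) • b)) = π x := by
      rw [map_add, map_add, map_smul, hπw, hτs, map_sub, hA, hπG, map_smul, hb, hπG]
      simp
    rw [hπy, neg_mul, neg_smul, map_neg, ← hA]
    abel
  have hD2 : ∀ {f : W4 →ₗ[F] W4} {k s : E}, τ s = 0 → (∀ x, f x = x + (τ (k * π x * θ) -
      τ (s * φ x w) * τ (k * (θ * θ ^ q ^ 3))) • (s • w) - τ (s * φ x w) • g ((k * θ ^ q ^ 3) • v)) →
      ∀ k' s', τ s' = 0 → ∀ x, τ (k' * π (f x) * θ) = τ (k' * π x * θ) ∧ τ (s' * φ (f x) w) = τ (s' * φ x w) := by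
    intro f k s hs hf k' s' hs' x
    constructor
    · rw [hf, map_sub π, map_add π, map_smul π, map_smul π, hπw, hs, hπG]
      simp
    · rw [hf, h_sub_left, h_add_left, d.hh_smul_left, d.hh_smul_left, h_smul_left, hw, mul_zero, mul_zero,
        add_zero, hGw, ← map_mul, mul_sub, map_sub, d.tau_mul', hs', zero_mul, sub_zero]
  have hsw : ∀ s : E, φ (s • w) (s • w) = 0 := fun s => by rw [h_smul_left, h_smul_right hE, hw, mul_zero, mul_zero]
  obtain ⟨z, hz0, hz, hτz⟩ := d.exists_fixed_zero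
  obtain ⟨ε, hε0, hε⟩ := exists_trace_zero_ne_zero hF
  obtain ⟨k₀, hk₀, hμ⟩ := d.exists_skew_pairing hθ0
  set μ := τ (k₀ * (θ * θ ^ q ^ 3)) with hμdef
  have hskew : ∀ t : F, t ^ q = t → ∀ {s : E}, s + s ^ q ^ 3 = 0 → al t * s + (al t * s) ^ q ^ 3 = 0 := by
    intro t ht s hs
    rw [mul_pow, d.alg_conj, ht, ← mul_add, hs, mul_zero]
  have hμq : μ ^ q = -μ := by
    rw [hμdef, ← d.tau_conj, mul_pow, mul_pow, pow_q_pow_q hE, eq_neg_of_add_eq_zero_right hk₀, ← map_neg]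
    congr 1; ring
  by_cases hq : 3 ≤ q
  · -- scaling
    obtain ⟨l, hlq, hl0, hl1⟩ : ∃ l : F, l ^ q = l ∧ l ≠ 0 ∧ l ≠ 1 := by
      classical
      have h := card_fixed hF
      rw [Nat.card_eq_fintype_card, Fintype.card_subtype] at h
      obtain ⟨a, ha, b, hb, c, hc, hab, hac, hbc⟩ := Finset.two_lt_card.1
        (show 2 < (Finset.univ.filter fun x : F => x ^ q = x).card by omega)
      simp only [Finset.mem_filter, Finset.mem_univ, true_and] at ha hb hc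
      by_cases h1 : a ≠ 0 ∧ a ≠ 1
      · exact ⟨a, ha, h1⟩
      by_cases h2 : b ≠ 0 ∧ b ≠ 1
      · exact ⟨b, hb, h2⟩
      by_cases h3 : c ≠ 0 ∧ c ≠ 1
      · exact ⟨c, hc, h3⟩
      exfalso
      simp only [not_and, not_not] at h1 h2 h3
      by_cases a0 : a = 0
      · subst a0
        exact hbc (by rw [h2 hab.symm, h3 hac.symm])
      · by_cases b0 : b = 0
        · subst b0; exact hac (by rw [h1 a0, h3 hbc.symm])
        · exact hab (by rw [h1 a0, h2 b0])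
    set s := al ε * z with hsdef
    have hs : s + s ^ q ^ 3 = 0 := by
      rw [hsdef, mul_pow, d.alg_conj, hz, eq_neg_of_add_eq_zero_right hε, map_neg]; ring
    have hτs : τ s = 0 := by rw [hsdef, d.tau_mul, hτz, mul_zero]
    have hs0 : s ≠ 0 := mul_ne_zero (by rwa [Ne, map_eq_zero]) hz0
    refine ⟨s • w, smul_ne_zero hs0 hw0, hsw s, by rw [hsw, map_zero], fun c hc => ?_⟩
    set t := c / ((l ^ 2 - l) * μ) with htdef
    have hden : (l ^ 2 - l) * μ ≠ 0 := mul_ne_zero (by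
      rw [show l ^ 2 - l = l * (l - 1) by ring]; exact mul_ne_zero hl0 (sub_ne_zero.2 hl1)) hμ
    have htq : t ^ q = t := by
      rw [htdef, div_pow, mul_pow, hμq, sub_pow_q hF, ← pow_mul, mul_comm 2, pow_mul, hlq,
        eq_neg_of_add_eq_zero_right hc]
      field_simp
    have hls : al l * s + (al l * s) ^ q ^ 3 = 0 := hskew l hlq hs
    obtain ⟨f₁, hf₁, hfx₁⟩ := hD (al t * k₀) (al l * s) (hskew t htq hk₀) hls (by rw [d.tau_mul, hτs, mul_zero])
    obtain ⟨f₂, hf₂, hfx₂⟩ := hD (al (-(l * t)) * k₀) s (hskew _ (by rw [neg_pow_q hF, mul_pow, hlq, htq]) hk₀) hs hτs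
    refine ⟨f₁ ∘ₗ f₂, d.mul hf₁ hf₂, fun x => ?_⟩
    obtain ⟨e1, e2⟩ := hD2 hτs hfx₂ (al t * k₀) (al l * s) (by rw [d.tau_mul, hτs, mul_zero]) x
    rw [LinearMap.comp_apply, hfx₁, e1, e2, hfx₂]
    have hm : ∀ a : F, τ (al a * k₀ * (θ * θ ^ q ^ 3)) = a * μ := fun a => by rw [mul_assoc, d.tau_mul]
    have ha : ∀ (a : F) (y : E), τ (al a * k₀ * y * θ) = a * τ (k₀ * y * θ) := fun a y => by
      rw [mul_assoc, mul_assoc, d.tau_mul, mul_assoc]
    have hb : ∀ a : F, g ((al a * k₀ * θ ^ q ^ 3) • v) = a • g ((k₀ * θ ^ q ^ 3) • v) := fun a => by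
      rw [← map_smul g, ← smul_assoc a (k₀ * θ ^ q ^ 3) v, Algebra.smul_def a (k₀ * θ ^ q ^ 3), mul_assoc]
    have hl2 : τ (al l * s * φ x w) = l * τ (s * φ x w) := by rw [mul_assoc, d.tau_mul]
    have hl3 : (al l * s) • w = l • (s • w) := by rw [← smul_assoc l s w, Algebra.smul_def l s]
    have hn : φ x (s • w) = -(s * φ x w) := by rw [h_smul_right hE, eq_neg_of_add_eq_zero_right hs, neg_mul]
    rw [hm, hm, ha, ha, hb, hb, hl2, hl3, hn, map_neg]
    have hct : c = t * ((l ^ 2 - l) * μ) := by rw [htdef, div_mul_cancel₀ _ hden]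
    rw [hct]
    module
  · have hq2 : q = 2 := by have := two_le hF; omega
    obtain ⟨β, hβ0, hβq, hβ, h2⟩ := d.exists_seven hq2
    have hneg : ∀ a : E, -a = a := fun a => by linear_combination (-a) * h2
    have h2F : (2 : F) = 0 := inj (by rw [map_ofNat, map_zero, h2])
    have hnegF : ∀ a : F, -a = a := fun a => by linear_combination (-a) * h2F
    have hsk : ∀ a : E, a ^ q ^ 3 = a → a + a ^ q ^ 3 = 0 := fun a ha => by rw [ha]; linear_combination a * h2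
    have hβ2q : (β ^ 2) ^ q ^ 3 = β ^ 2 := by rw [← pow_mul, mul_comm, pow_mul, hβq]
    have hτβ : τ β = 0 := inj (by
      rw [d.tr, hq2, map_zero]
      norm_num
      linear_combination ((-4 : E) * β ^ 0 + (-7 : E) * β ^ 1 + (-1 : E) * β ^ 2 + (5 : E) * β ^ 3 + (3 : E) * β ^ 4 + (-2 : E) * β ^ 5 + (-3 : E) * β ^ 6 + (2 : E) * β ^ 8 + (1 : E) * β ^ 9 + (-1 : E) * β ^ 10 + (-1 : E) * β ^ 11 + (1 : E) * β ^ 13) * hβ + ((2 : E) * β ^ 0 + (6 : E) * β ^ 1 + (4 : E) * β ^ 2) * h2)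
    have hτβ2 : τ (β ^ 2) = 0 := inj (by
      rw [d.tr, hq2, map_zero]
      norm_num
      linear_combination ((202 : E) * β ^ 0 + (2 : E) * β ^ 1 + (-137 : E) * β ^ 2 + (-65 : E) * β ^ 3 + (63 : E) * β ^ 4 + (74 : E) * β ^ 5 + (-9 : E) * β ^ 6 + (-54 : E) * β ^ 7 + (-19 : E) * β ^ 8 + (28 : E) * β ^ 9 + (26 : E) * β ^ 10 + (-7 : E) * β ^ 11 + (-21 : E) * β ^ 12 + (-5 : E) * β ^ 13 + (12 : E) * β ^ 14 + (9 : E) * β ^ 15 + (-4 : E) * β ^ 16 + (-8 : E) * β ^ 17 + (-1 : E) * β ^ 18 + (5 : E) * β ^ 19 + (3 : E) * β ^ 20 + (-2 : E) * β ^ 21 + (-3 : E) * β ^ 22 + (2 : E) * β ^ 24 + (1 : E) * β ^ 25 + (-1 : E) * β ^ 26 + (-1 : E) * β ^ 27 + (1 : E) * β ^ 29) * hβ + ((-101 : E) * β ^ 0 + (-102 : E) * β ^ 1 + (68 : E) * β ^ 2) * h2)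
    have key : ∀ p : E, τ (β ^ 2 * p) • β + τ (β * p) • β ^ 2 = al (τ p) + p := by
      intro p
      rw [Algebra.smul_def, Algebra.smul_def, d.tr, d.tr, d.tr, hq2]
      norm_num
      linear_combination (((2 : E) * β ^ 0) * p ^ 1 + ((-1 : E) * β ^ 0 + (1 : E) * β ^ 1 + (1 : E) * β ^ 2 + (-1 : E) * β ^ 4 + (1 : E) * β ^ 6) * p ^ 4 + ((147 : E) * β ^ 0 + (209 : E) * β ^ 1 + (-3 : E) * β ^ 2 + (-144 : E) * β ^ 3 + (-65 : E) * β ^ 4 + (68 : E) * β ^ 5 + (76 : E) * β ^ 6 + (-11 : E) * β ^ 7 + (-57 : E) * β ^ 8 + (-19 : E) * β ^ 9 + (30 : E) * β ^ 10 + (27 : E) * β ^ 11 + (-8 : E) * β ^ 12 + (-22 : E) * β ^ 13 + (-5 : E) * β ^ 14 + (13 : E) * β ^ 15 + (9 : E) * β ^ 16 + (-4 : E) * β ^ 17 + (-8 : E) * β ^ 18 + (-1 : E) * β ^ 19 + (5 : E) * β ^ 20 + (3 : E) * β ^ 21 + (-2 : E) * β ^ 22 + (-3 : E) * β ^ 23 + (2 : E) * β ^ 25 + (1 : E) * β ^ 26 + (-1 : E) * β ^ 27 + (-1 : E) * β ^ 28 + (1 : E) * β ^ 30) * p ^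 16) * hβ + (((-2 : E) * β ^ 0 + (-1 : E) * β ^ 1) * p ^ 1 + ((-1 : E) * β ^ 2) * p ^ 4 + ((-74 : E) * β ^ 0 + (-178 : E) * β ^ 1 + (-103 : E) * β ^ 2) * p ^ 16) * h2
    refine ⟨w, hw0, hw, by rw [hw, map_zero], fun c hc => ?_⟩
    have hμ1 : μ = 1 := by
      have : μ ^ (q ^ 2 - 1) = 1 := by rw [← d.cardF]; exact FiniteField.pow_card_sub_one_eq_one μ hμ
      rw [hq2] at this hμq
      rw [hnegF] at hμq
      norm_num at this
      have h3 : μ * μ ^ 2 = 1 := by linear_combination this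
      rw [hμq] at h3
      exact (show μ = μ ^ 2 from hμq.symm).trans (by rw [← h3]; ring)
    rcases eq_or_ne c 0 with rfl | hc0
    · exact ⟨_, d.one, fun y => by simp⟩
    have hc1 : c = 1 := by
      rw [hq2] at hc
      have : c * (c + 1) = 0 := by linear_combination hc
      have := (mul_eq_zero.1 this).resolve_left hc0
      linear_combination this - h2F
    obtain ⟨f₁, hf₁, hfx₁⟩ := hD k₀ β hk₀ (hsk β hβq) hτβ
    obtain ⟨f₂, hf₂, hfx₂⟩ := hD k₀ (β ^ 2) hk₀ (hsk _ hβ2q) hτβ2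
    have hτ3 : τ (β + β ^ 2) = 0 := by rw [map_add, hτβ, hτβ2, add_zero]
    obtain ⟨f₃, hf₃, hfx₃⟩ := hD k₀ (β + β ^ 2) hk₀ (hsk _ (by rw [add_pow_q hE, hβq, hβ2q])) hτ3
    obtain ⟨u, hu, hux⟩ := d.etv hw (k := 1) (hsk 1 (one_pow _))
    refine ⟨f₁ ∘ₗ f₂ ∘ₗ f₃ ∘ₗ u, d.mul hf₁ (d.mul hf₂ (d.mul hf₃ hu)), fun x => ?_⟩
    simp only [LinearMap.comp_apply]
    obtain ⟨a1, a2⟩ := hD2 hτβ2 hfx₂ k₀ β hτβ (f₃ (u x))
    obtain ⟨b1, b2⟩ := hD2 hτ3 hfx₃ k₀ β hτβ (u x)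
    obtain ⟨c1, c2⟩ := hD2 hτ3 hfx₃ k₀ (β ^ 2) hτβ2 (u x)
    rw [hfx₁, a1, a2, b1, b2, hfx₂, c1, c2, hfx₃]
    have hu1 : π (u x) = π x + π (φ x w • w) := by rw [hux, map_add, one_mul]
    have hu2 : φ (u x) w = φ x w := by rw [hux, h_add_left, h_smul_left, hw, mul_zero, add_zero]
    set Xk := τ (k₀ * π (u x) * θ)
    rw [hu2, hux, one_mul, ← hμdef, hμ1, hc1]
    set p := φ x w
    set G := g ((k₀ * θ ^ q ^ 3) • v)
    have hp : τ ((β + β ^ 2) * p) = τ (β * p) + τ (β ^ 2 * p) := by rw [add_mul, map_add]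
    rw [hp]
    have hkey : τ (β ^ 2 * p) • (β • w) + τ (β * p) • (β ^ 2 • w) = τ p • w + p • w := by
      rw [← smul_assoc, ← smul_assoc, ← add_smul, key p, add_smul, algebraMap_smul]
    linear_combination (norm := skip) hkey
    match_scalars
    all_goals first
      | ring1
      | (ring_nf; simp [h2, show (4 : E) = 0 by linear_combination 2 * h2])
      | (ring_nf; simp [h2F, show (4 : F) = 0 by linear_combination 2 * h2F])

end H41.UExt
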