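import Cfsg.Agent.H41.UExt.Cases

/-!
An overgroup containing an element which is not semilinear contains all transvections.
-/

set_option autoImplicit false
set_option linter.unusedSectionVars false
set_option linter.unusedSimpArgs false

namespace H41.UExt

open Matrix Cfsg H50

variable {F E : Type*} [Field F] [Fintype F] [Field E] [Fintype E] [Algebra F E] {q : ℕ}
variable {τ : E →ₗ[F] F} {Mf : ((Fin 4 → E) →ₗ[F] (Fin 4 → E)) → Prop} (d : XS q τ Mf)
include d

local notation "W4" => (Fin 4 → E)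
local notation "φ" => hermForm 4 E (q ^ 3)
local notation "al" => algebraMap F E

/-- A map sending isotropic lines to lines is semilinear. -/
theorem XS.semilinear_of_lines {g : W4 →ₗ[F] W4} (hg : Mf g)
    (h : ∀ v : W4, φ v v = 0 → ∀ c : E, ∃ e : E, g (c • v) = e • g v) :
    ∀ c : E, ∃ e : E, ∀ x, g (c • x) = e • g x := by
  classical
  have hE := d.cardE
  intro c
  obtain ⟨g', -, hgg, -⟩ := d.inv hg
  have ginj : Function.Injective g := fun a b e => by
    have := congrArg g' e
    rwa [show g' (g a) = a from LinearMap.congr_fun hgg a, show g' (g b) = b from LinearMap.congr_fun hgg b] at this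
  choose f hf using h
  have hne : ∀ {v : W4}, v ≠ 0 → g v ≠ 0 := fun hv e => hv (ginj (by rw [e, map_zero]))
  -- orthogonal independent vectors
  have orth : ∀ {v w : W4} (hv : φ v v = 0) (hw : φ w w = 0), v ≠ 0 → w ≠ 0 → φ v w = 0 → (∀ a : E, w ≠ a • v) →
      f v hv c = f w hw c := by
    intro v w hv hw hv0 hw0 hvw hind
    have hs : φ (v + w) (v + w) = 0 := by
      rw [h_add_left, h_add_right hE, h_add_right hE, hv, hw, hvw, (h_eq_zero_comm hE).1 hvw]; simp
    have h1 : (f v hv c - f (v + w) hs c) • g v + (f w hw c - f (v + w) hs c) • g w = 0 := by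
      have := hf (v + w) hs c
      rw [smul_add, map_add, map_add, hf v hv c, hf w hw c, smul_add] at this
      linear_combination (norm := module) this
    have key : f w hw c - f (v + w) hs c = 0 := by
      by_contra hne'
      set e := (f w hw c - f (v + w) hs c)⁻¹ * -(f v hv c - f (v + w) hs c) with he
      have hgw : g w = e • g v := by
        rw [he, ← smul_smul, neg_smul, ← eq_neg_of_add_eq_zero_right h1, smul_smul, inv_mul_cancel₀ hne', one_smul]
      -- the two lines have the same image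
      let Gv : E →ₗ[F] W4 :=
        { toFun := fun a => g (a • v)
          map_add' := fun a b => by rw [add_smul, map_add]
          map_smul' := fun t a => by rw [RingHom.id_apply, smul_assoc, map_smul] }
      let L : E →ₗ[F] W4 := (LinearMap.toSpanSingleton E W4 (g v)).restrictScalars F
      have hle : LinearMap.range Gv ≤ LinearMap.range L := by
        rintro _ ⟨a, rfl⟩
        exact ⟨f v hv a, (hf v hv a).symm⟩
      haveI : FiniteDimensional F E := Module.finite_of_finrank_eq_succ d.rank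
      have hGi : Function.Injective Gv := fun a b e => smul_left_injective E hv0 (ginj e)
      have hLi : Function.Injective L := fun a b e => smul_left_injective E (hne hv0) e
      have heq := Submodule.eq_of_le_of_finrank_eq hle
        (by rw [LinearMap.finrank_range_of_inj hGi, LinearMap.finrank_range_of_inj hLi])
      obtain ⟨a, ha⟩ : g w ∈ LinearMap.range Gv := by
        rw [heq]; exact ⟨e, hgw.symm⟩
      exact hind a (ginj ha.symm)
    rw [key, zero_smul, add_zero, smul_eq_zero] at h1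
    have h2 := h1.resolve_right (hne hv0)
    linear_combination h2 - key
  have nonperp : ∀ {v w : W4} (hv : φ v v = 0) (hw : φ w w = 0), φ v w ≠ 0 → f v hv c = f w hw c := by
    intro v w hv hw hvw
    have hv0 : v ≠ 0 := fun e => hvw (by rw [e, h_zero_left])
    have hw0 : w ≠ 0 := fun e => hvw (by rw [e, h_zero_right hE])
    have hli : LinearIndependent E ![v, w] := linearIndependent_fin2.2 ⟨by simpa using hw0, fun a e => hvw (by
      simp at e; rw [← e, h_smul_left, hw, mul_zero])⟩
    have hr := finrank_perp_range hE hli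
    rw [Fintype.card_fin] at hr
    obtain ⟨u, hu, hu0, huu⟩ := Covering.exists_isotropic_mem hE (W := perp (q ^ 3) (Set.range ![v, w])) (by omega)
    have huv : φ u v = 0 := by simpa using mem_perp_range.1 hu 0
    have huw : φ u w = 0 := by simpa using mem_perp_range.1 hu 1
    rw [← orth huu hv hu0 hv0 huv (fun a e => hvw (by rw [e, h_smul_left, huw, mul_zero])),
      orth huu hw hu0 hw0 huw (fun a e => hvw (by rw [e, h_smul_right hE, (h_eq_zero_comm hE).1 huv, mul_zero]))]
  obtain ⟨v₀, w₀, hvw₀⟩ := exists_hyp hE (n := 4) (by norm_num)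
  refine ⟨f v₀ hvw₀.1 c, ?_⟩
  have hv₀ : v₀ ≠ 0 := fun e => zero_ne_one (α := E) (by rw [← hvw₀.2.2, e, h_zero_left])
  have all : ∀ v (hv : φ v v = 0), v ≠ 0 → f v hv c = f v₀ hvw₀.1 c := by
    intro v hv hv0
    by_cases h0 : φ v v₀ = 0
    · by_cases hd : ∀ a : E, v₀ ≠ a • v
      · exact orth hv hvw₀.1 hv0 hv₀ h0 hd
      · simp only [not_forall, not_not] at hd
        obtain ⟨a, ha⟩ := hd
        have h2 : φ v w₀ ≠ 0 := fun e => zero_ne_one (α := E) (by rw [← hvw₀.2.2, ha, h_smul_left, e, mul_zero])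
        rw [nonperp hv hvw₀.2.1 h2, nonperp hvw₀.1 hvw₀.2.1 (by rw [hvw₀.2.2]; exact one_ne_zero)]
    · exact nonperp hv hvw₀.1 h0
  have iso : ∀ v : W4, φ v v = 0 → g (c • v) = f v₀ hvw₀.1 c • g v := by
    intro v hv
    rcases eq_or_ne v 0 with rfl | hv0
    · simp
    · rw [hf v hv c, all v hv hv0]
  intro x
  rcases eq_or_ne x 0 with rfl | hx0
  · simp
  by_cases hxx : φ x x = 0
  · exact iso x hxx
  obtain ⟨v, hv, hxv⟩ : ∃ v : W4, φ v v = 0 ∧ φ x v ≠ 0 := by
    by_contra hcon
    simp only [not_exists, not_and, not_not] at hcon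
    have hS : perp (q ^ 3) {x} ≠ (⊤ : Submodule E W4) := fun e => by
      have h' : x ∈ perp (q ^ 3) {x} := e ▸ Submodule.mem_top
      exact hxx (h' x rfl)
    obtain ⟨u, huu, hu⟩ := Covering.exists_isotropic_not_mem hE (by norm_num) hS
    exact hu (fun w hw => by rw [Set.mem_singleton_iff.1 hw, h_eq_zero_comm hE]; exact hcon u huu)
  obtain ⟨l, hl⟩ := d.iso_along_iso hv hxv
  have h1 := iso _ hl
  have h2 := iso (l • v) (by rw [h_smul_left, h_smul_right hE, hv, mul_zero, mul_zero])
  rw [smul_add, map_add, map_add, h2, smul_add] at h1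
  exact add_right_cancel h1

theorem XS.ctr_mv {f : W4 →ₗ[F] W4} (hf : Mf f) {x : W4} (hx : Ctr q τ Mf x) : Ctr q τ Mf (f x) := by
  obtain ⟨f', hf', h1, h2⟩ := d.inv hf
  refine ⟨by rw [d.iso hf]; exact hx.1, fun c hc => ?_⟩
  obtain ⟨t, ht, htx⟩ := hx.2 c hc
  refine ⟨f ∘ₗ t ∘ₗ f', d.mul hf (d.mul ht hf'), fun y => ?_⟩
  have hy : f (f' y) = y := LinearMap.congr_fun h2 y
  rw [LinearMap.comp_apply, LinearMap.comp_apply, htx, map_add, map_smul, hy, ← d.iso hf, hy]

theorem XS.ctr_move {x y : W4} (hx0 : x ≠ 0) (hy0 : y ≠ 0) (h : φ x x = φ y y) (hx : Ctr q τ Mf x) :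
    Ctr q τ Mf y := by
  obtain ⟨N, hN, hNx, hd⟩ := UDec.exists_move_vec d.cardE (by norm_num) hx0 hy0 h
  have := d.ctr_mv (d.lin (mkSU N hN (hd (by norm_num)))) hx
  rwa [LinearMap.restrictScalars_apply, Matrix.toLin'_apply, show suMat (mkSU N hN (hd (by norm_num))) = N from rfl,
    hNx] at this

/-- All isotropic vectors for the trace form are centres. -/
theorem XS.ctr_all {g : W4 →ₗ[F] W4} (hg : Mf g) (hne : ¬ ∀ c : E, ∃ e : E, ∀ x, g (c • x) = e • g x) :
    ∀ x, τ (φ x x) = 0 → Ctr q τ Mf x := by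
  classical
  have hE := d.cardE
  have hF := d.cardF
  obtain ⟨v, hv, hnl⟩ : ∃ v : W4, φ v v = 0 ∧ ∃ c : E, ∀ e : E, g (c • v) ≠ e • g v := by
    by_contra hcon
    simp only [not_exists, not_and, not_forall, not_not] at hcon
    exact hne (d.semilinear_of_lines hg hcon)
  obtain ⟨n, hn0, hn, hctr⟩ := d.ctr_of_not_line hg hv hnl
  intro x hx
  rcases eq_or_ne x 0 with rfl | hx0
  · exact ⟨by simp [h_zero_left], fun c _ => ⟨_, d.one, fun y => by simp⟩⟩
  by_cases hxx : φ x x = 0
  · exact d.ctr_move hn0 hx0 (by rw [hn, hxx]) hctr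
  -- a centre of the same norm
  obtain ⟨c, hc0, hc⟩ := exists_trace_zero_ne_zero hF
  set a := φ x x with ha
  have haq : a ^ q ^ 3 = a := by rw [ha, h_self_fixed hE]
  have hcq : c ^ q = -c := eq_neg_of_add_eq_zero_right hc
  have halc : al c ≠ 0 := by rwa [Ne, map_eq_zero]
  -- the product of the two isotropic vectors
  obtain ⟨z, hz⟩ := exists_trace_eq hE (c := -(a / al c) / al c)
    (by rw [div_pow, neg_pow_q hE, div_pow, haq, d.alg_conj, hcq, map_neg]; ring)
  set b₀ := al c * z with hb₀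
  clear_value b₀
  have hb₀' : b₀ - b₀ ^ q ^ 3 = -(a / al c) := by
    rw [hb₀, mul_pow, d.alg_conj, hcq, map_neg, neg_mul, sub_neg_eq_add, ← mul_add, hz, mul_div_cancel₀ _ halc]
  have hτb₀ : τ b₀ ^ q = τ b₀ := by
    have h1 := congrArg τ hb₀'
    rw [map_sub, d.tau_conj, map_neg, div_eq_mul_inv, ← map_inv₀, d.tau_mul', hx, zero_mul, neg_zero, sub_eq_zero] at h1
    exact h1.symm
  obtain ⟨k, hk, hk1⟩ := d.exists_fixed_one
  set b := b₀ + al (1 - τ b₀) * k with hb
  have hb1 : τ b = 1 := by rw [hb, map_add, d.tau_mul, hk1, mul_one, add_sub_cancel]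
  have hb' : b - b ^ q ^ 3 = -(a / al c) := by
    rw [hb, add_pow_q hE, mul_pow, hk, d.alg_conj, sub_pow_q hF, one_pow, hτb₀]
    linear_combination hb₀'
  obtain ⟨u, w, huw⟩ := exists_hyp hE (n := 4) (by norm_num)
  set w' := (b ^ q ^ 3) • w with hw'
  have hu0 : u ≠ 0 := fun e => zero_ne_one (α := E) (by rw [← huw.2.2, e, h_zero_left])
  have hw'w' : φ w' w' = 0 := by rw [hw', h_smul_left, h_smul_right hE, huw.2.1, mul_zero, mul_zero]
  have huw' : φ u w' = b := by rw [hw', h_smul_right hE, huw.2.2, mul_one, pow_q_pow_q hE]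
  have hb0 : b ≠ 0 := fun e => zero_ne_one (α := F) (by rw [← hb1, e, map_zero])
  have hw'0 : w' ≠ 0 := fun e => hb0 (by rw [← huw', e, h_zero_right hE])
  have cu := d.ctr_move hn0 hu0 (by rw [hn, huw.1]) hctr
  have cw := d.ctr_move hn0 hw'0 (by rw [hn, hw'w']) hctr
  obtain ⟨t, ht, htx⟩ := cw.2 c hc
  have cy := d.ctr_mv ht cu
  rw [htx, huw', hb1, mul_one] at cy
  have hnorm : φ (u + c • w') (u + c • w') = a := by
    rw [h_add_left, h_add_right hE, h_add_right hE, d.hh_smul_left, d.hh_smul_left, d.hh_smul_right, d.hh_smul_right,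
      huw.1, hw'w', h_symm hE u w', huw', d.alg_conj, hcq, map_neg]
    have : (b - b ^ q ^ 3) * al c = -a := by rw [hb', neg_mul, div_mul_cancel₀ _ halc]
    linear_combination -this
  refine d.ctr_move (fun e => hxx ?_) hx0 (by rw [hnorm]) cy
  rw [← hnorm, e, h_zero_left]

end H41.UExt
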