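import Cfsg.Agent.H50.Hyperbolic
import Cfsg.Agent.H50.Covering
import Cfsg.Agent.H50.Generation
import Cfsg.Agent.H41.UDec.BlockVec

/-!
Overgroups of a unitary group of dimension four over a cubic extension: the setting.
-/

set_option autoImplicit false
set_option linter.unusedSectionVars false

namespace H41.UExt

open Matrix Cfsg H50

variable {F E : Type*} [Field F] [Fintype F] [Field E] [Fintype E] [Algebra F E] {q : ℕ}

local notation "W4" => (Fin 4 → E)
local notation "φ" => hermForm 4 E (q ^ 3)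

/-- The maps in an overgroup of `SU(4, E)` preserving the trace of the form. -/
structure XS (q : ℕ) (τ : E →ₗ[F] F) (Mf : ((Fin 4 → E) →ₗ[F] (Fin 4 → E)) → Prop) : Prop where
  cardF : Fintype.card F = q ^ 2
  cardE : Fintype.card E = (q ^ 3) ^ 2
  rank : Module.finrank F E = 3
  tr : ∀ x, algebraMap F E (τ x) = x + x ^ q ^ 2 + x ^ q ^ 4
  nz : τ ≠ 0
  mul : ∀ {f g}, Mf f → Mf g → Mf (f ∘ₗ g)
  inv : ∀ {f}, Mf f → ∃ g, Mf g ∧ g ∘ₗ f = LinearMap.id ∧ f ∘ₗ g = LinearMap.id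
  iso : ∀ {f}, Mf f → ∀ x y, τ (hermForm 4 E (q ^ 3) (f x) (f y)) = τ (hermForm 4 E (q ^ 3) x y)
  lin : ∀ N : SU 4 E (q ^ 3), Mf ((Matrix.toLin' (suMat N)).restrictScalars F)

variable {τ : E →ₗ[F] F} {Mf : ((Fin 4 → E) →ₗ[F] (Fin 4 → E)) → Prop} (d : XS q τ Mf)
include d

theorem XS.tau_mul (t : F) (x : E) : τ (algebraMap F E t * x) = t * τ x := by
  rw [← Algebra.smul_def, map_smul, smul_eq_mul]

theorem XS.tau_mul' (x : E) (t : F) : τ (x * algebraMap F E t) = τ x * t := by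
  rw [mul_comm, d.tau_mul, mul_comm]

theorem XS.tau_conj (x : E) : τ (x ^ q ^ 3) = τ x ^ q := by
  obtain ⟨p, f, hp, -, hc, hqp⟩ := H50.exists_prime_pow d.cardF
  haveI : Fact p.Prime := ⟨hp⟩
  haveI : CharP F p := hc
  haveI : CharP E p := charP_of_injective_algebraMap (algebraMap F E).injective p
  haveI : ExpChar E p := ExpChar.prime hp
  apply (algebraMap F E).injective
  rw [d.tr, map_pow (algebraMap F E) (τ x), d.tr]
  have hadd : ∀ a b : E, (a + b) ^ q = a ^ q + b ^ q := fun a b => by rw [hqp]; exact add_pow_char_pow a b p f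
  have h7 : x ^ (q ^ 7) = x ^ q := by
    rw [show q ^ 7 = (q ^ 3) ^ 2 * q by ring, pow_mul, ← d.cardE, FiniteField.pow_card]
  rw [hadd, hadd, ← pow_mul, ← pow_mul, ← pow_mul, ← pow_mul]
  simp only [← pow_add, ← pow_succ]
  rw [h7]
  ring_nf

theorem XS.hh_smul_left (t : F) (x y : W4) : φ (t • x) y = algebraMap F E t * φ x y := by
  rw [← algebraMap_smul E t x, h_smul_left]

theorem XS.hh_smul_right (t : F) (x y : W4) : φ x (t • y) = algebraMap F E t ^ (q ^ 3) * φ x y := by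
  rw [← algebraMap_smul E t y, h_smul_right d.cardE]

theorem XS.alg_conj (t : F) : algebraMap F E t ^ (q ^ 3) = algebraMap F E (t ^ q) := by
  rw [← map_pow, show q ^ 3 = q ^ 2 * q by ring, pow_mul, ← d.cardF, FiniteField.pow_card]

theorem XS.tau_ext {a b : E} (h : ∀ c, τ (c * a) = τ (c * b)) : a = b := by
  by_contra hne
  refine d.nz (LinearMap.ext fun e => ?_)
  have h1 := h (e / (a - b))
  rw [LinearMap.zero_apply, ← div_mul_cancel₀ e (sub_ne_zero.2 hne), mul_sub, map_sub, h1, sub_self]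

theorem XS.dual (f : E →ₗ[F] F) : ∃ a : E, ∀ c, τ (c * a) = f c := by
  let T : E →ₗ[F] Module.Dual F E := (LinearMap.mul F E).compr₂ τ
  have hT : Function.Injective T := fun a b e => d.tau_ext fun c => by
    rw [mul_comm c a, mul_comm c b]; exact LinearMap.congr_fun e c
  haveI : FiniteDimensional F E := Module.finite_of_finrank_eq_succ d.rank
  obtain ⟨a, ha⟩ := (LinearMap.injective_iff_surjective_of_finrank_eq_finrank
    Subspace.dual_finrank_eq.symm).1 hT f
  exact ⟨a, fun c => by rw [mul_comm]; exact LinearMap.congr_fun ha c⟩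

theorem XS.exists_tau_eq (t : F) : ∃ e, τ e = t := by
  obtain ⟨e, he⟩ : ∃ e, τ e ≠ 0 := by
    by_contra h
    simp only [not_exists, not_not] at h
    exact d.nz (LinearMap.ext h)
  exact ⟨(t / τ e) • e, by rw [map_smul, smul_eq_mul, div_mul_cancel₀ _ he]⟩

/-- An element of the fixed field with trace one. -/
theorem XS.exists_fixed_one : ∃ z : E, z ^ q ^ 3 = z ∧ τ z = 1 := by
  obtain ⟨u, hu⟩ := exists_trace_eq d.cardF (one_pow q)
  obtain ⟨e, he⟩ := d.exists_tau_eq u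
  refine ⟨e + e ^ q ^ 3, ?_, ?_⟩
  · rw [add_pow_q d.cardE, pow_q_pow_q d.cardE, add_comm]
  · rw [map_add, d.tau_conj, he, hu]

/-- A non-zero element of the fixed field with trace zero. -/
theorem XS.exists_fixed_zero : ∃ z : E, z ≠ 0 ∧ z ^ q ^ 3 = z ∧ τ z = 0 := by
  classical
  have hq := two_le d.cardF
  let f : {x : E // x ^ q ^ 3 = x} → {t : F // t ^ q = t} := fun x => ⟨τ x.1, by rw [← d.tau_conj, x.2]⟩
  have hlt : Nat.card {t : F // t ^ q = t} < Nat.card {x : E // x ^ q ^ 3 = x} := by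
    rw [card_fixed d.cardF, card_fixed d.cardE]
    nlinarith [Nat.mul_le_mul hq hq]
  obtain ⟨x, y, hne, hxy⟩ : ∃ x y, x ≠ y ∧ f x = f y := by
    by_contra h
    simp only [not_exists, not_and] at h
    exact absurd (Nat.card_le_card_of_injective f fun x y e => not_not.1 fun hn => h x y hn e) (not_le.2 hlt)
  refine ⟨x.1 - y.1, sub_ne_zero.2 fun e => hne (Subtype.ext e), by rw [sub_pow_q d.cardE, x.2, y.2], ?_⟩
  rw [map_sub, show τ x.1 = τ y.1 from congrArg Subtype.val hxy, sub_self]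

/-- A skew element with prescribed trace pairing against a non-zero norm. -/
theorem XS.exists_skew_pairing {θ : E} (hθ : θ ≠ 0) :
    ∃ k : E, k + k ^ q ^ 3 = 0 ∧ τ (k * (θ * θ ^ q ^ 3)) ≠ 0 := by
  obtain ⟨ε, hε0, hε⟩ := exists_trace_zero_ne_zero d.cardF
  obtain ⟨z, hz, hz1⟩ := d.exists_fixed_one
  have hn : θ * θ ^ q ^ 3 ≠ 0 := mul_ne_zero hθ (pow_ne_zero _ hθ)
  refine ⟨algebraMap F E ε * (z / (θ * θ ^ q ^ 3)), ?_, ?_⟩
  · rw [mul_pow, d.alg_conj, eq_neg_of_add_eq_zero_right hε, div_pow, hz, mul_pow, pow_q_pow_q d.cardE,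
      mul_comm (θ ^ q ^ 3), map_neg]
    ring
  · rw [mul_assoc, div_mul_cancel₀ _ hn, d.tau_mul, hz1, mul_one]
    exact hε0

/-- A unitary transvection over the extension. -/
theorem XS.etv {v : W4} (hv : φ v v = 0) {k : E} (hk : k + k ^ q ^ 3 = 0) :
    ∃ f, Mf f ∧ ∀ x, f x = x + (k * φ x v) • v :=
  ⟨_, d.lin (tv d.cardE v k hv hk), fun x => by
    rw [LinearMap.restrictScalars_apply, Matrix.toLin'_apply, tv_mulVec]⟩

theorem XS.one : Mf LinearMap.id := by
  have := d.lin 1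
  rwa [suMat_one, Matrix.toLin'_one] at this

/-- All transvections over the base field centred at `x` are present. -/
def Ctr (q : ℕ) (τ : E →ₗ[F] F) (Mf : ((Fin 4 → E) →ₗ[F] (Fin 4 → E)) → Prop) (x : Fin 4 → E) : Prop :=
  τ (hermForm 4 E (q ^ 3) x x) = 0 ∧ ∀ c : F, c + c ^ q = 0 →
    ∃ f, Mf f ∧ ∀ y, f y = y + (c * τ (hermForm 4 E (q ^ 3) y x)) • x

end H41.UExt
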